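import Groth.Agent.Lib.AsympCoh18.Single
import Groth.Agent.Lib.CurveCoh17.Twist
import Groth.Agent.Lib.CohFound.DevissageModel
import Groth.Agent.Lib.CohFound.ModQuot
import Groth.Agent.Lib.NumPoly18.SurfProj
import Groth.Agent.Lib.RelAmple18.Generated
import Groth.Agent.Lib.Snapper.Section

/-!
# Higher cohomology of the powers of a globally generated invertible module

For `L` generated by its global sections the cohomology `H^i (G ⊗ L^n)`, `i ≥ 1`, of a coherent module
`G` with support of dimension `≤ d` grows at most like `n^(d-1)`.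
-/

set_option autoImplicit false
set_option linter.style.haveILetI false
set_option linter.unusedSectionVars false
set_option maxHeartbeats 1000000
set_option backward.isDefEq.respectTransparency false
set_option backward.isDefEq.respectTransparency.types false

universe u

open CategoryTheory CategoryTheory.Limits AlgebraicGeometry TopologicalSpace Opposite

namespace Groth.Agent.GrowthGG18

open Groth.Agent Growth13 CohFound
open Groth.Agent.CurveCoh17 (stalkLin SuppIn)

variable {X : Scheme.{u}}

theorem exists_suppIn [IsNoetherian X] {G : X.Modules} (hG : Coh.IsCoh G)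
    (hd : topologicalKrullDim (CohB1.support G) ≤ 0) : ∃ S : Finset X, SuppIn G S := by
  have hcl := M1.isClosed_support hG.2
  have hpt : ∀ x ∈ CohB1.support G, IsClosed ({x} : Set X) := fun x hx => by
    rw [← closure_eq_iff_isClosed]
    refine Set.Subset.antisymm (fun y hy => ?_) subset_closure
    have hxy : x ⤳ y := specializes_iff_mem_closure.2 hy
    by_contra hne
    have hlt := Order.height_add_one_le (VarDim.lt_of_specializes_ne hxy hne)
    have h0 : Order.height x = 0 := by
      have h1 := (ProjDeg17.height_le_dim_of_mem hcl hx).trans hd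
      exact nonpos_iff_eq_zero.1 (WithBot.coe_le_coe.1 h1)
    rw [h0] at hlt
    exact one_ne_zero (nonpos_iff_eq_zero.1 (le_trans (le_add_self) hlt))
  obtain ⟨T, hT⟩ := VarDim.exists_finite_generic (X := X) hcl
  refine ⟨T, fun x hx => hpt x ((hT x).2 ⟨x, hx, specializes_rfl⟩), fun x hx a => ?_⟩
  by_contra ha
  have hxs : x ∈ CohB1.support G := fun hsub => ha (@Subsingleton.elim _ hsub _ _)
  obtain ⟨g, hg, hgx⟩ := (hT x).1 hxs
  exact hx (Set.mem_singleton_iff.1 (hgx.mem_closed (hpt g ((hT g).2 ⟨g, hg, specializes_rfl⟩)) rfl) ▸ hg)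

variable (k : Type u) [Field k] [X.Over (Spec (CommRingCat.of k))] [IsProper (X ↘ Spec (CommRingCat.of k))]

/-- `h^{i} (G ⊗ L^n) = O (n^(d-1))` for `i ≥ 1`, and `= 0` for `d = 0`. -/
def Bd (L : X.Modules) (d : ℕ) (G : X.Modules) : Prop :=
  ∃ C : ℕ, (d = 0 → C = 0) ∧ ∀ n i,
    hdim k (CohB1.tensorMod G (CohB1.tensorPow L n)) (i + 1) ≤ C * (n + 1) ^ (d - 1)

variable {k}

theorem bd {L : X.Modules} (hL : PicF.IsInvertible L) (hgen : Curv2.IsGloballyGenerated L) :
    ∀ (d : ℕ) (G : X.Modules), Coh.IsCoh G →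
      topologicalKrullDim (CohB1.support G) ≤ (d : WithBot ℕ∞) → Bd k L d G := by
  haveI : IsNoetherian X := CohFound.isNoetherian_of_isProper (X ↘ (Spec (CommRingCat.of k)))
  have hpow := fun n => M2.isInvertible_tensorPow hL n
  intro d
  induction d with
  | zero =>
    intro G hG hd
    refine ⟨0, fun _ => rfl, fun n i => ?_⟩
    obtain ⟨S, hS⟩ := exists_suppIn (CurveCoh17.isCoh_tensor hG (Snapper.isCoh_of_isInvertible (hpow n)))
      (Snapper.dim_le_of_subset (Snapper.support_tensor_subset G _) (by simpa using hd))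
    haveI := hS.subsingleton_HH i
    exact (Module.finrank_zero_of_subsingleton (R := k)
      (M := Coh.HH X (CohB1.tensorMod G (CohB1.tensorPow L n)) (i + 1))).trans_le (Nat.zero_le _)
  | succ d IH =>
    intro F hF hdim'
    refine holds_of_cyclic (P := Bd k L (d + 1)) (Z₀ := CohB1.support F) ?_ ?_ ?_ hF subset_rfl
    · intro M hM hz
      refine ⟨0, fun _ => rfl, fun n i => (hdim_of_support_empty k (Set.subset_empty_iff.1
        ((Snapper.support_tensor_subset M _).trans ?_)) _).trans_le (Nat.zero_le _)⟩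
      exact fun x hx => hx (AddCommGrpCat.subsingleton_of_isZero ((M1.stalkAb x).map_isZero hz))
    · rintro S hS h1 h2 h3 - ⟨C1, -, c1⟩ ⟨C3, -, c3⟩
      exact ⟨C1 + C3, fun h => absurd h d.succ_ne_zero, fun n i => (hdim_mid_tensor_le hS h1 h2 h3 (hpow n) _).trans
        ((add_le_add (c1 n i) (c3 n i)).trans_eq (add_mul _ _ _).symm)⟩
    intro Z η hη hZ hsmall Q hQ hQZ q hq hqm hgenQ
    -- cut down to the closure of `η`
    let I := Scheme.IdealSheafData.vanishingIdeal ⟨closure ({η} : Set X), isClosed_closure⟩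
    have hI : (I.support : Set X) = closure {η} := by
      rw [Scheme.IdealSheafData.coe_support_vanishingIdeal]; rfl
    have hA : Coh.IsCoh (ClSub.quotMod I) := CurveCoh17.isCoh_quotMod I
    let Q' := CohB1.tensorMod (ClSub.quotMod I) Q
    have hQ' : Coh.IsCoh Q' := CurveCoh17.isCoh_tensor hA hQ
    have hQ's : CohB1.support Q' ⊆ closure {η} :=
      ((Snapper.support_tensor_subset _ _).trans (NumPoly18.support_quotMod_subset I)).trans hI.le
    let ψ : Q ⟶ Q' := (M2.tensorLUnit Q).inv ≫ M2.tensorMap (ClSub.toSubscheme I) (𝟙 Q)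
    haveI : Epi ψ := by
      haveI := M2.epi_toSubscheme I
      haveI := CohFound.epi_tensorMap (ClSub.toSubscheme I) Q
      exact epi_comp _ _
    haveI := M1.finite_stalk hQ.1 hQ.2 η
    haveI := M1.finite_stalk hA.1 hA.2 η
    haveI : Nontrivial (Q.presheaf.stalk η) := ⟨⟨q, 0, hq⟩⟩
    haveI : Nontrivial ((ClSub.quotMod I).presheaf.stalk η) := by
      refine not_subsingleton_iff_nontrivial.1 fun hs => ?_
      have hmem : η ∈ CohB1.support (ClSub.quotMod I) := by
        rw [NumPoly18.support_quotMod, hI]; exact subset_closure rfl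
      exact hmem hs
    have hne : Nontrivial (Q'.presheaf.stalk η) := by
      refine not_subsingleton_iff_nontrivial.1 fun hs => ?_
      haveI := (M2.stalkEquiv (ClSub.quotMod I) Q η).symm.toEquiv.subsingleton
      have := Snapper.surjective_of_rTensor (A := PUnit.{u + 1}) (M := Q.presheaf.stalk η)
        (0 : PUnit.{u + 1} →ₗ[X.presheaf.stalk η] (ClSub.quotMod I).presheaf.stalk η)
        fun b => ⟨0, Subsingleton.elim _ _⟩
      obtain ⟨a, ha⟩ := exists_ne (0 : (ClSub.quotMod I).presheaf.stalk η)
      obtain ⟨u, hu⟩ := this a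
      exact ha hu.symm
    have hψsurj : Function.Surjective (stalkLin ψ η) := (M1.epi_iff_stalk ψ).1 inferInstance η
    have hψinj : Function.Injective (stalkLin ψ η) := by
      refine (injective_iff_map_eq_zero _).2 fun a ha => ?_
      obtain ⟨c, rfl⟩ := hgenQ a
      rw [map_smul] at ha
      by_cases hc : c ∈ IsLocalRing.maximalIdeal (X.presheaf.stalk η)
      · exact hqm c hc
      · have h0 : stalkLin ψ η q = 0 := (IsLocalRing.notMem_maximalIdeal.1 hc).smul_eq_zero.1 ha
        obtain ⟨b, hb⟩ := exists_ne (0 : Q'.presheaf.stalk η)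
        obtain ⟨a', rfl⟩ := hψsurj b
        obtain ⟨c', rfl⟩ := hgenQ a'
        exact absurd (by rw [map_smul, h0, smul_zero]) hb
    have hK : Coh.IsCoh (kernel ψ) := CurveCoh17.isCoh_kernel hQ hQ'.1 ψ
    obtain ⟨B0, -, hB0⟩ : Bd k L (d + 1) (kernel ψ) :=
      hsmall _ hK ((CohFound.support_subset_of_mono (kernel.ι ψ)).trans hQZ)
        ((M1.notMem_support_iff _ η).2 fun a => CurveCoh17.eq_zero_stalk_kernel ψ η hψinj a)
    -- multiplication by a section generating at `η`
    obtain ⟨s, hs⟩ := RA.exists_gen_of_isGloballyGenerated hL hgen η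
    let W := CohB1.tensorMod L Q'
    have hW : Coh.IsCoh W := CurveCoh17.isCoh_tensor (Snapper.isCoh_of_isInvertible hL) hQ'
    let φ : Q' ⟶ W := (M2.tensorLUnit Q').inv ≫ M2.tensorMap s (𝟙 Q')
    have hφsurj : Function.Surjective (stalkLin φ η) := by
      show Function.Surjective (stalkLin ((M2.tensorLUnit Q').symm.hom ≫ _) η)
      rw [Snapper.surjective_stalkLin_iso_comp, Snapper.bijective_tensorMap_iff]
      exact LinearMap.rTensor_surjective _ ((Snapper.surjective_section_iff hL s η).2 hs)
    have hφinj : Function.Injective (stalkLin φ η) := by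
      obtain ⟨eL⟩ := CurveCoh17.nonempty_stalk_equiv ((M2.isInvertible_iff_isFinLocFreeOfRank_one L).1 hL) η
      let e : W.presheaf.stalk η ≃ₗ[X.presheaf.stalk η] Q'.presheaf.stalk η :=
        (M2.stalkEquiv L Q' η).trans ((TensorProduct.congr (eL.trans (LinearEquiv.funUnique (Fin 1) _ _))
          (LinearEquiv.refl _ _)).trans (TensorProduct.lid _ _))
      haveI := M1.finite_stalk hQ'.1 hQ'.2 η
      have h := OrzechProperty.injective_of_surjective_endomorphism (e.toLinearMap.comp (stalkLin φ η))
        (e.surjective.comp hφsurj)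
      exact fun a b hab => h (congrArg e hab)
    have hK' : Coh.IsCoh (kernel φ) := CurveCoh17.isCoh_kernel hQ' hW.1 φ
    have hC' : Coh.IsCoh (cokernel φ) := M1.isCoh_cokernel hQ'.1 hW φ
    have hWs : CohB1.support W ⊆ closure {η} := (Snapper.support_tensor_subset_right L Q').trans hQ's
    have hdη : topologicalKrullDim (closure ({η} : Set X)) ≤ ((d + 1 : ℕ) : WithBot ℕ∞) :=
      Snapper.dim_le_of_subset ((M1.isClosed_support hF.2).closure_subset_iff.2
        (Set.singleton_subset_iff.2 (hZ hη))) hdim'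
    obtain ⟨B1, hB1z, hB1⟩ := IH _ hK' (Snapper.dim_le_of_notMem (M1.isClosed_support hK'.2)
      ((CohFound.support_subset_of_mono (kernel.ι φ)).trans hQ's)
      ((M1.notMem_support_iff _ η).2 fun a => CurveCoh17.eq_zero_stalk_kernel φ η hφinj a) hdη)
    obtain ⟨B2, hB2z, hB2⟩ := IH _ hC' (Snapper.dim_le_of_notMem (M1.isClosed_support hC'.2)
      ((CohFound.support_subset_of_epi (cokernel.π φ)).trans hWs)
      ((M1.notMem_support_iff _ η).2 fun a => CurveCoh17.eq_zero_stalk_cokernel φ η hφsurj a) hdη)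
    have cI : Coh.IsCoh (Abelian.image φ) := CurveCoh17.isCoh_kernel hW hC'.1 _
    have hstep : ∀ n i, hdim k (CohB1.tensorMod Q' (CohB1.tensorPow L (n + 1))) (i + 1) ≤
        hdim k (CohB1.tensorMod Q' (CohB1.tensorPow L n)) (i + 1) + (B1 + B2) * (n + 1) ^ (d - 1) := by
      intro n i
      have a1 := hdim_mid_tensor_le (k := k) (CurveCoh17.cokerSC_shortExact φ) cI hW hC' (hpow n) (i + 1)
      have a2 := hdim_right_tensor_le (k := k) (CurveCoh17.kerSC_shortExact φ) hK' hQ' cI (hpow n) (i + 1)
      have b1 := hB1 n (i + 1)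
      have b2 := hB2 n i
      simp only at a1 a2
      rw [hdim_iso k (M2.tensorIso (Iso.refl Q') (M2.tensorComm _ _) ≪≫ (M2.tensorAssoc Q' L _).symm ≪≫
        M2.tensorIso (M2.tensorComm Q' L) (Iso.refl _) :
          CohB1.tensorMod Q' (CohB1.tensorPow L (n + 1)) ≅ CohB1.tensorMod W (CohB1.tensorPow L n)) (i + 1)]
      rw [add_mul]
      omega
    obtain ⟨g₀, hg₀⟩ := exists_hdim_bound k (CurveCoh17.isCoh_tensor hQ' (Snapper.isCoh_of_isInvertible (hpow 0)))
    have hQ'bd : ∀ n i, hdim k (CohB1.tensorMod Q' (CohB1.tensorPow L n)) (i + 1) ≤ (g₀ + B1 + B2) * (n + 1) ^ d := by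
      intro n i
      rcases d with _ | e
      · obtain rfl := hB1z rfl
        obtain rfl := hB2z rfl
        induction n with
        | zero => simpa using hg₀ (i + 1)
        | succ n ih => exact (hstep n i).trans (by simpa using ih)
      · induction n with
        | zero => simpa using (hg₀ (i + 1)).trans (by omega)
        | succ n ih =>
          refine (hstep n i).trans ((add_le_add ih le_rfl).trans ?_)
          have h1 : (n + 1) ^ (e + 1 - 1) ≤ (n + 2) ^ e := by
            rw [Nat.add_sub_cancel]; exact Nat.pow_le_pow_left (by omega) e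
          calc (g₀ + B1 + B2) * (n + 1) ^ (e + 1) + (B1 + B2) * (n + 1) ^ (e + 1 - 1)
              ≤ (g₀ + B1 + B2) * ((n + 1) * (n + 2) ^ e) + (g₀ + B1 + B2) * (n + 2) ^ e := by
                refine add_le_add (Nat.mul_le_mul_left _ ?_) (Nat.mul_le_mul (by omega) h1)
                rw [pow_succ']
                exact Nat.mul_le_mul_left _ (Nat.pow_le_pow_left (by omega) e)
            _ = (g₀ + B1 + B2) * (n + 1 + 1) ^ (e + 1) := by ring
    have hS : (ShortComplex.mk (kernel.ι ψ) ψ (kernel.condition ψ)).ShortExact :=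
      { exact := ShortComplex.exact_of_f_is_kernel _ (kernelIsKernel ψ) }
    refine ⟨B0 + (g₀ + B1 + B2), fun h => absurd h d.succ_ne_zero, fun n i => ?_⟩
    refine (hdim_mid_tensor_le hS hK hQ hQ' (hpow n) _).trans ?_
    rw [add_mul]
    exact add_le_add (hB0 n i) (hQ'bd n i)

end Groth.Agent.GrowthGG18
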